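import Mathlib.Algebra.Module.FinitePresentation
import Mathlib.LinearAlgebra.Dual.Lemmas
import Mathlib.RingTheory.Flat.EquationalCriterion
import Mathlib.RingTheory.Localization.Away.Basic

/-!
# Finiteness of modules of sections which are locally projective off a depth two locus
-/

set_option autoImplicit false
universe u

namespace Groth.Agent.S2Ext25

variable {A B : Type u} [CommRing A] [IsNoetherianRing A] [AddCommGroup B] [Module A B]

/-- A module which is finite projective on a family of basic opens on which the functions are those of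
`A` is finite. -/
theorem finite_of_locally_projective (F : Finset A)
    (hA : ∀ (c : F → A) (N : ℕ), (∀ f g : F, (g : A) ^ N * c f = (f : A) ^ N * c g) →
      ∃ a : A, ∀ f : F, (f : A) ^ N * a = c f)
    (hA0 : ∀ (a : A) (N : ℕ), (∀ f : F, (f : A) ^ N * a = 0) → a = 0)
    (hB0 : ∀ b : B, (∀ f : F, ∃ N : ℕ, (f : A) ^ N • b = 0) → b = 0)
    (Af : F → Type u) [∀ f, CommRing (Af f)] [∀ f, Algebra A (Af f)]
    [∀ f : F, IsLocalization.Away (f : A) (Af f)]
    (Bf : F → Type u) [∀ f, AddCommGroup (Bf f)] [∀ f, Module A (Bf f)] [∀ f, Module (Af f) (Bf f)]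
    [∀ f, IsScalarTower A (Af f) (Bf f)] (l : ∀ f, B →ₗ[A] Bf f)
    [∀ f : F, IsLocalizedModule (Submonoid.powers (f : A)) (l f)]
    [∀ f, Module.Finite (Af f) (Bf f)] [∀ f, Module.Projective (Af f) (Bf f)] :
    Module.Finite A B := by
  classical
  choose G hG using fun f => Module.Finite.fg_top (R := Af f) (M := Bf f)
  choose nb hnb using fun (f : F) (x : Bf f) => IsLocalizedModule.surj (Submonoid.powers (f : A)) (l f) x
  let T : Finset B := Finset.univ.biUnion fun f : F => (G f).image fun x => (nb f x).1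
  let M : Submodule A B := Submodule.span A (T : Set B)
  haveI : Module.Finite A M := Module.Finite.iff_fg.2 ⟨T, rfl⟩
  -- every element is in `M` after multiplication by a power
  have hmem : ∀ (f : F) (b : B), ∃ N : ℕ, (f : A) ^ N • b ∈ M := by
    intro f b
    have h1 : ∀ x : Bf f, ∃ (N : ℕ) (m : M), (f : A) ^ N • x = l f m := by
      intro x
      have hx : x ∈ Submodule.span (Af f) (G f : Set (Bf f)) := by rw [hG]; trivial
      induction hx using Submodule.span_induction with
      | mem y hy =>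
        obtain ⟨k, hk⟩ := (nb f y).2.2
        refine ⟨k, ⟨(nb f y).1, Submodule.subset_span ?_⟩, ?_⟩
        · exact Finset.mem_biUnion.2 ⟨f, Finset.mem_univ _, Finset.mem_image_of_mem _ hy⟩
        · exact (congrArg (· • y) hk).trans (hnb f y)
      | zero => exact ⟨0, 0, by simp⟩
      | add y z _ _ hy hz =>
        obtain ⟨N, m, hm⟩ := hy
        obtain ⟨N', m', hm'⟩ := hz
        refine ⟨N + N', (f : A) ^ N' • m + (f : A) ^ N • m', ?_⟩
        simp only [Submodule.coe_add, SetLike.val_smul, map_add, map_smul, ← hm, ← hm', smul_smul, smul_add,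
          ← pow_add, add_comm N' N]
      | smul r y _ hy =>
        obtain ⟨N, m, hm⟩ := hy
        obtain ⟨⟨a, ⟨_, k, rfl⟩⟩, ha⟩ := IsLocalization.surj (Submonoid.powers (f : A)) r
        refine ⟨k + N, a • m, ?_⟩
        rw [SetLike.val_smul, map_smul, ← hm, pow_add, mul_smul, smul_comm ((f : A) ^ N) r y,
          ← algebraMap_smul (Af f) ((f : A) ^ k), ← algebraMap_smul (Af f) a, smul_smul, mul_comm, ha]
    obtain ⟨N, m, hm⟩ := h1 (l f b)
    rw [← map_smul] at hm
    obtain ⟨⟨_, k, rfl⟩, hk⟩ := IsLocalizedModule.exists_of_eq (S := Submonoid.powers (f : A)) (f := l f) hm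
    refine ⟨k + N, ?_⟩
    rw [pow_add, mul_smul]
    exact (show (f : A) ^ k • (f : A) ^ N • b = (f : A) ^ k • (m : B) from hk) ▸ M.smul_mem _ m.2
  have hmemN : ∀ b : B, ∃ N : ℕ, ∀ f : F, (f : A) ^ N • b ∈ M := by
    intro b
    choose N hN using fun f => hmem f b
    refine ⟨Finset.univ.sup N, fun f => ?_⟩
    obtain ⟨d, hd⟩ := Nat.exists_eq_add_of_le (Finset.le_sup (f := N) (Finset.mem_univ f))
    rw [hd, pow_add, mul_comm, mul_smul]
    exact M.smul_mem _ (hN f)
  -- evaluation on functionals of `M`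
  let P := M →ₗ[A] A
  have hev : ∀ (b : B) (φ : P), ∃! a : A, ∀ (N : ℕ) (f : F) (m : M), (m : B) = (f : A) ^ N • b →
      (f : A) ^ N * a = φ m := by
    intro b φ
    obtain ⟨N₀, hN₀⟩ := hmemN b
    let m₀ : F → M := fun f => ⟨_, hN₀ f⟩
    obtain ⟨a, ha⟩ := hA (fun f => φ (m₀ f)) N₀ fun f g => by
      rw [← smul_eq_mul, ← smul_eq_mul, ← map_smul, ← map_smul]
      exact congrArg φ (Subtype.ext (smul_comm _ _ _))
    refine ⟨a, fun N f m hm => sub_eq_zero.1 (hA0 _ N₀ fun g => ?_), fun a' ha' => sub_eq_zero.1 (hA0 _ N₀ fun g => ?_)⟩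
    · have h1 : (g : A) ^ N₀ • m = (f : A) ^ N • m₀ g := Subtype.ext (by
        show (g : A) ^ N₀ • (m : B) = (f : A) ^ N • (g : A) ^ N₀ • b
        rw [hm, smul_comm])
      have h2 := congrArg φ h1
      rw [map_smul, map_smul, smul_eq_mul, smul_eq_mul, ← ha g] at h2
      rw [mul_sub, h2]
      ring
    · rw [mul_sub, ha g, ha' N₀ g (m₀ g) rfl, sub_self]
  choose e he heu using hev
  let Ψ : B →ₗ[A] (P →ₗ[A] A) :=
    { toFun := fun b =>
        { toFun := e b
          map_add' := fun φ ψ => (heu b (φ + ψ) _ fun N f m hm => by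
            rw [mul_add, he b φ N f m hm, he b ψ N f m hm, LinearMap.add_apply]).symm
          map_smul' := fun r φ => (heu b (r • φ) _ fun N f m hm => by
            rw [RingHom.id_apply, smul_eq_mul, mul_left_comm, he b φ N f m hm, LinearMap.smul_apply, smul_eq_mul]).symm }
      map_add' := fun b b' => LinearMap.ext fun φ => by
        obtain ⟨N₁, h₁⟩ := hmemN b
        obtain ⟨N₂, h₂⟩ := hmemN b'
        refine sub_eq_zero.1 (hA0 _ (N₁ + N₂) fun f => ?_)
        have hb : (f : A) ^ (N₁ + N₂) • b ∈ M := by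
          rw [add_comm, pow_add, mul_smul]; exact M.smul_mem _ (h₁ f)
        have hb' : (f : A) ^ (N₁ + N₂) • b' ∈ M := by
          rw [pow_add, mul_smul]; exact M.smul_mem _ (h₂ f)
        show (f : A) ^ (N₁ + N₂) * (e (b + b') φ - (e b φ + e b' φ)) = 0
        rw [mul_sub, mul_add, he b φ _ f ⟨_, hb⟩ rfl, he b' φ _ f ⟨_, hb'⟩ rfl,
          he (b + b') φ _ f (⟨_, hb⟩ + ⟨_, hb'⟩) (smul_add _ _ _).symm, map_add, sub_self]
      map_smul' := fun r b => LinearMap.ext fun φ => by
        obtain ⟨N, h⟩ := hmemN b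
        refine sub_eq_zero.1 (hA0 _ N fun f => ?_)
        show (f : A) ^ N * (e (r • b) φ - r • e b φ) = 0
        rw [mul_sub, he (r • b) φ N f (r • ⟨_, h f⟩) (smul_comm r _ _), smul_eq_mul, mul_left_comm,
          he b φ N f ⟨_, h f⟩ rfl, map_smul, smul_eq_mul, sub_self] }
  have hΨ : Function.Injective Ψ := by
    refine (injective_iff_map_eq_zero Ψ).2 fun b hb => hB0 b fun f => ?_
    obtain ⟨N, hN⟩ := hmemN b
    let m : M := ⟨_, hN f⟩
    have hm0 : ∀ φ : P, φ m = 0 := fun φ => by
      rw [← he b φ N f m rfl, show e b φ = 0 from LinearMap.congr_fun hb φ, mul_zero]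
    let lM : M →ₗ[A] Bf f := (l f).comp M.subtype
    haveI : IsLocalizedModule (Submonoid.powers (f : A)) lM :=
      { map_units := IsLocalizedModule.map_units (l f)
        surj := fun y => by
          obtain ⟨⟨x, s⟩, hs⟩ := IsLocalizedModule.surj (Submonoid.powers (f : A)) (l f) y
          obtain ⟨K, hK⟩ := hmem f x
          refine ⟨⟨⟨_, hK⟩, ⟨(f : A) ^ K, K, rfl⟩ * s⟩, ?_⟩
          show ((f : A) ^ K * (s : A)) • y = l f ((f : A) ^ K • x)
          rw [mul_smul, map_smul]
          exact congrArg _ hs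
        exists_of_eq := fun {x y} hxy => by
          obtain ⟨c, hc⟩ := IsLocalizedModule.exists_of_eq (S := Submonoid.powers (f : A)) (f := l f)
            (show l f x = l f y from hxy)
          exact ⟨c, Subtype.ext hc⟩ }
    haveI : Module.FinitePresentation A M := Module.finitePresentation_of_finite A M
    have h0 : lM m = 0 := (Module.forall_dual_apply_eq_zero_iff (Af f) (lM m)).1 fun χ => by
      obtain ⟨φ, s, hφ⟩ := Module.FinitePresentation.exists_lift_of_isLocalizedModule (Submonoid.powers (f : A))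
        (Algebra.linearMap A (Af f)) ((χ.restrictScalars A).comp lM)
      have h1 := LinearMap.congr_fun hφ m
      simp only [LinearMap.comp_apply, hm0, map_zero, LinearMap.smul_apply, Submonoid.smul_def,
        LinearMap.restrictScalars_apply] at h1
      have hu : IsUnit (algebraMap A (Af f) (s : A)) := IsLocalization.map_units _ s
      rw [Algebra.smul_def] at h1
      exact (hu.mul_right_eq_zero).1 h1.symm
    obtain ⟨⟨_, k, rfl⟩, hk⟩ := (IsLocalizedModule.eq_zero_iff (Submonoid.powers (f : A)) (l f)).1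
      (show l f ((f : A) ^ N • b) = 0 from h0)
    exact ⟨k + N, by rw [pow_add, mul_smul]; exact hk⟩
  haveI : Module.Finite A P := inferInstanceAs (Module.Finite A (M →ₗ[A] A))
  haveI : IsNoetherian A (P →ₗ[A] A) := isNoetherian_of_isNoetherianRing_of_finite A _
  exact Module.Finite.of_injective Ψ hΨ

end Groth.Agent.S2Ext25
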