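import Groth.Agent.Lib.PushDepth27.Flat
import Groth.Agent.Lib.CartExt13.Divisor
import Groth.Agent.Lib.CurveCoh17.Integral
import Groth.Prelude.Def_ClSub2
import Groth.Prelude.Def_Algz2

/-!
# Depth two at points missed by a morphism inducing an isomorphism on functions
-/

set_option autoImplicit false
set_option backward.isDefEq.respectTransparency false
universe u

open CategoryTheory AlgebraicGeometry TopologicalSpace IsLocalRing RingTheory.Sequence Opposite

namespace Groth.Agent.S2Ext25

variable {W Y X : Scheme.{u}} (t : W ⟶ Y) (π : Y ⟶ X)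

set_option maxHeartbeats 800000 in
/-- If `O_Y = t_* O_W` with `W` flat over `X`, regular sequences of length two at `π y` stay regular at `y`. -/
theorem two_le_depth_of_push [QuasiCompact t] [QuasiSeparated t] [Flat (t ≫ π)]
    [QuasiCompact (t ≫ π)] (ht : ∀ V, IsIso (t.app V)) (y : Y)
    (hd : (2 : ℕ∞) ≤ LocCoh.depth (X.presheaf.stalk (π y)) (X.presheaf.stalk (π y))) :
    (2 : ℕ∞) ≤ LocCoh.depth (Y.presheaf.stalk y) (Y.presheaf.stalk y) := by
  let A := X.presheaf.stalk (π y)
  have hne : maximalIdeal A • (⊤ : Submodule A A) ≠ ⊤ := by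
    rw [Ideal.smul_eq_mul, Ideal.mul_top]
    exact (maximalIdeal.isMaximal A).ne_top
  obtain ⟨rs, h1, h2, h3⟩ := DepthLib.exists_isWeaklyRegular_of_le_idealDepth hne hd
  obtain ⟨r₁, r₂, rfl⟩ := List.length_eq_two.1 h3
  obtain ⟨U, -, hs, hr, -⟩ := PushDepth27.exists_common_germs (t ≫ π) (Coh.structureModule W) (s := π y)
    (fun i : Bool => cond i r₁ r₂) (fun e : Empty => (e.elim : _))
  choose c hc using hr
  let F := Coh.structureModule W
  let a := c true
  let b := c false
  have hab : ([a, b].map fun z => X.presheaf.germ U (π y) hs z) = [r₁, r₂] := by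
    simp only [List.map_cons, List.map_nil, a, b, hc, cond_true, cond_false]
  have hreg := PushDepth27.isWeaklyRegular_stalk_of_flat (t ≫ π) F (CartExt13.isFlatOver_structureModule _) hs [a, b]
    (hab.symm ▸ h1)
  let a' := π.app U a
  let b' := π.app U b
  have hr' : ∀ w (hw : w ∈ t ⁻¹ᵁ (π ⁻¹ᵁ U)), t w ⤳ y →
      IsWeaklyRegular (F.presheaf.stalk w) [PushDepth27.upGerm t a' w hw, PushDepth27.upGerm t b' w hw] :=
    fun w hw hwy => hreg w hw (hwy.map π.continuous)
  have g1 := PushDepth27.isSMulRegular_stalk_push t F (s := y) hs a' fun w hw hwy =>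
    ((isWeaklyRegular_cons_iff _ _ _).1 (hr' w hw hwy)).1
  have g2 := PushDepth27.isSMulRegular_quot_stalk_push t F (s := y) hs a' b' hr'
  have g : IsWeaklyRegular (((Scheme.Modules.pushforward t).obj F).presheaf.stalk y)
      [Y.presheaf.germ (π ⁻¹ᵁ U) y hs a', Y.presheaf.germ (π ⁻¹ᵁ U) y hs b'] :=
    (isWeaklyRegular_cons_iff _ _ _).2 ⟨g1, (isWeaklyRegular_singleton_iff _ _).2 g2⟩
  haveI : IsIso (ClSub.unitToPush t) := Scheme.Modules.Hom.isIso_iff_isIso_app.2 fun V => by
    haveI := ht V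
    exact (ConcreteCategory.isIso_iff_bijective _).2 (ConcreteCategory.bijective_of_isIso (t.app V))
  haveI : IsIso (ClSub.unitToPush t).mapPresheaf := Functor.map_isIso (Scheme.Modules.toPresheaf Y) (ClSub.unitToPush t)
  have hbij : Function.Bijective (Algz.stalkMapₗ (ClSub.unitToPush t) y) :=
    ConcreteCategory.bijective_of_isIso
      ((TopCat.Presheaf.stalkFunctor AddCommGrpCat.{u} y).map (ClSub.unitToPush t).mapPresheaf)
  obtain ⟨e⟩ := CurveCoh17.nonempty_stalk_equiv_structureModule (X := Y) y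
  let L := ((LinearEquiv.ofBijective _ hbij).symm.trans e).trans (LinearEquiv.funUnique (Fin 1) _ _)
  have g' := (L.isWeaklyRegular_congr _).1 g
  refine le_trans ?_ (DepthLib.length_le_idealDepth g' ?_)
  · simp
  · have hm : ∀ z ∈ [a, b], Y.presheaf.germ (π ⁻¹ᵁ U) y hs (π.app U z) ∈ maximalIdeal (Y.presheaf.stalk y) := by
      intro z hz
      rw [show Y.presheaf.germ (π ⁻¹ᵁ U) y hs (π.app U z) = π.stalkMap y (X.presheaf.germ U (π y) hs z) from
        (π.germ_stalkMap_apply U y hs z).symm, mem_maximalIdeal]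
      intro hu
      have hzm : X.presheaf.germ U (π y) hs z ∈ maximalIdeal A := h2 _ (hab ▸ List.mem_map_of_mem hz)
      exact hzm (isUnit_of_map_unit (π.stalkMap y).hom _ hu)
    rintro r (_ | ⟨_, _ | ⟨_, ⟨⟩⟩⟩)
    · exact hm a (by simp)
    · exact hm b (by simp)

end Groth.Agent.S2Ext25
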