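import Groth.Agent.Lib.S2Ext25.Main
import Groth.Agent.Lib.S2Ext25.Depth
import Groth.Agent.Lib.PurityDesc25.Main

/-!
# The finite extension of a finite étale cover across depth two
-/

set_option autoImplicit false
universe u

open CategoryTheory CategoryTheory.Limits AlgebraicGeometry TopologicalSpace Opposite

namespace Groth.Agent.S2Ext25

/-- A morphism which is an isomorphism on functions over the preimages of affines is one on all functions. -/
theorem isIso_app_of_preimage {W Y X : Scheme.{u}} (t : W ⟶ Y) [QuasiCompact t] [QuasiSeparated t]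
    (π : Y ⟶ X) [IsAffineHom π] (h : ∀ V : X.Opens, IsAffineOpen V → IsIso (t.app (π ⁻¹ᵁ V))) (O : Y.Opens) :
    IsIso (t.app O) := by
  let B : (Σ V : X.affineOpens, Γ(Y, π ⁻¹ᵁ V.1)) → Y.Opens := fun i => Y.basicOpen i.2
  have hB : Opens.IsBasis (Set.range B) := by
    rw [Opens.isBasis_iff_nbhd]
    intro U y hy
    obtain ⟨V, hV, hyV, -⟩ := exists_isAffineOpen_mem_and_subset (X := X) (x := π y) (U := ⊤) trivial
    obtain ⟨β, hβ, hyβ⟩ := (hV.preimage π).exists_basicOpen_le ⟨y, hy⟩ (show y ∈ π ⁻¹ᵁ V from hyV)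
    exact ⟨Y.basicOpen β, ⟨⟨⟨V, hV⟩, β⟩, rfl⟩, hyβ, hβ⟩
  let φ : Y.sheaf ⟶ (TopCat.Sheaf.pushforward CommRingCat t.base).obj W.sheaf := ⟨t.c⟩
  have hφ : IsIso φ := TopCat.Sheaf.isIso_iff_isIso_basis hB (fun i => by
    obtain ⟨⟨V, hV⟩, β⟩ := i
    show IsIso (t.app (Y.basicOpen β))
    haveI := h V hV
    let e := (asIso (t.app (π ⁻¹ᵁ V))).commRingCatIsoToRingEquiv
    letI := (Y.presheaf.map (homOfLE (Y.basicOpen_le β)).op).hom.toAlgebra
    letI : Algebra Γ(W, t ⁻¹ᵁ (π ⁻¹ᵁ V)) Γ(W, W.basicOpen (t.app _ β)) :=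
      (W.presheaf.map (homOfLE (W.basicOpen_le (t.app _ β))).op).hom.toAlgebra
    haveI : IsLocalization.Away β Γ(Y, Y.basicOpen β) := (hV.preimage π).isLocalization_basicOpen β
    haveI : IsLocalization.Away (t.app _ β) Γ(W, W.basicOpen (t.app _ β)) :=
      isLocalization_basicOpen_of_qcqs (t.isCompact_preimage (hV.preimage π).isCompact)
        (t.isQuasiSeparated_preimage (hV.preimage π).isQuasiSeparated) _
    have H : (Submonoid.powers β).map e.toMonoidHom = Submonoid.powers (t.app _ β) :=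
      Submonoid.map_powers _ _
    let e' := IsLocalization.ringEquivOfRingEquiv Γ(Y, Y.basicOpen β) Γ(W, W.basicOpen (t.app _ β)) e H
    let φ' := t.appLE (Y.basicOpen β) (W.basicOpen (t.app _ β)) (Scheme.preimage_basicOpen t β).ge
    have heq : φ'.hom = e'.toRingHom := IsLocalization.ringHom_ext (Submonoid.powers β) (RingHom.ext fun r => by
      refine Eq.trans ?_ (IsLocalization.ringEquivOfRingEquiv_eq (S := Γ(Y, Y.basicOpen β))
        (Q := Γ(W, W.basicOpen (t.app _ β))) H r).symm
      exact congr($(t.map_appLE (Scheme.preimage_basicOpen t β).ge (homOfLE (Y.basicOpen_le β)).op) r))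
    haveI : IsIso φ' := (ConcreteCategory.isIso_iff_bijective _).2 (by
      show Function.Bijective φ'.hom
      rw [heq]
      exact e'.bijective)
    haveI : IsIso (W.presheaf.map (homOfLE (Scheme.preimage_basicOpen t β).ge).op) := by
      rw [show homOfLE (Scheme.preimage_basicOpen t β).ge = eqToHom (Scheme.preimage_basicOpen t β).symm from
        Subsingleton.elim _ _]
      infer_instance
    haveI : IsIso (t.app (Y.basicOpen β) ≫ W.presheaf.map (homOfLE (Scheme.preimage_basicOpen t β).ge).op) := ‹IsIso φ'›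
    exact IsIso.of_isIso_comp_right (t.app (Y.basicOpen β))
      (W.presheaf.map (homOfLE (Scheme.preimage_basicOpen t β).ge).op))
  haveI := hφ
  haveI : IsIso t.c := inferInstanceAs (IsIso ((TopCat.Sheaf.forget CommRingCat Y).map φ))
  exact inferInstanceAs (IsIso (t.c.app (op O)))

variable {X : Scheme.{u}} [IsLocallyNoetherian X] (U : X.Opens)

/-- The direct image of a finite étale cover of `U` is finite over `X`. -/
theorem exists_finite_extension
    (hU : ∀ x : X, x ∉ U → (2 : ℕ∞) ≤ LocCoh.depth (X.presheaf.stalk x) (X.presheaf.stalk x))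
    {W : Scheme.{u}} (w : W ⟶ (U : Scheme.{u})) [IsFinite w] [Etale w] :
    ∃ (E : Scheme.{u}) (h : E ⟶ X) (t : W ⟶ E), IsFinite h ∧ QuasiCompact t ∧ QuasiSeparated t ∧
      t ≫ h = w ≫ U.ι ∧ (∀ O, IsIso (t.app O)) ∧ IsPullback t w h U.ι := by
  let g := w ≫ U.ι
  haveI : QuasiCompact g := inferInstanceAs (QuasiCompact (w ≫ U.ι))
  haveI : QuasiSeparated g := inferInstanceAs (QuasiSeparated (w ≫ U.ι))
  have hloc : ∀ V₀ : X.Opens, IsAffineOpen V₀ →
      (g.fromNormalization.app V₀).hom.Finite ∧ IsIso (g.toNormalization.app (g.fromNormalization ⁻¹ᵁ V₀)) ∧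
        (IsAffineOpen (g ⁻¹ᵁ V₀) → IsIso (g.toNormalization ∣_ (g.fromNormalization ⁻¹ᵁ V₀))) := by
    intro V₀ hV₀
    have hfin : (g.app V₀).hom.Finite := finite_app U w hU V₀ hV₀
    letI := (g.app V₀).hom.toAlgebra
    have htop : integralClosure Γ(X, V₀) Γ(W, g ⁻¹ᵁ V₀) = ⊤ := by
      rw [integralClosure_eq_top_iff]
      haveI : Module.Finite Γ(X, V₀) Γ(W, g ⁻¹ᵁ V₀) := hfin
      infer_instance
    have hval : Function.Bijective (integralClosure Γ(X, V₀) Γ(W, g ⁻¹ᵁ V₀)).val.toRingHom :=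
      ⟨Subtype.val_injective, fun x => ⟨⟨x, htop ▸ Algebra.mem_top⟩, rfl⟩⟩
    haveI hvi : IsIso (CommRingCat.ofHom (integralClosure Γ(X, V₀) Γ(W, g ⁻¹ᵁ V₀)).val.toRingHom) :=
      (ConcreteCategory.isIso_iff_bijective _).2 hval
    have hobj := g.normalizationObjIso_hom_val hV₀
    have happ : g.fromNormalization.app V₀ ≫ (g.normalizationObjIso hV₀).hom ≫
        CommRingCat.ofHom (integralClosure Γ(X, V₀) Γ(W, g ⁻¹ᵁ V₀)).val.toRingHom = g.app V₀ := by
      rw [g.fromNormalization_app hV₀, Category.assoc, Iso.inv_hom_id_assoc]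
      rfl
    refine ⟨?_, ?_, fun haff => ?_⟩
    · exact (PurityDesc25.finite_comp_iso _ _ inferInstance).1 (happ.symm ▸ hfin)
    · rw [g.toNormalization_app_preimage ⟨V₀, hV₀⟩]
      exact IsIso.comp_isIso' inferInstance (IsIso.comp_isIso' hvi (PurityDesc25.isIso_map_eqToHom _))
    · set O := g.fromNormalization ⁻¹ᵁ V₀
      haveI : IsAffine (O : Scheme.{u}) := hV₀.preimage g.fromNormalization
      have hpre : g.toNormalization ⁻¹ᵁ O = g ⁻¹ᵁ V₀ := by
        rw [← Scheme.Hom.comp_preimage, Scheme.Hom.toNormalization_fromNormalization]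
      haveI : IsAffine ((g.toNormalization ⁻¹ᵁ O) : Scheme.{u}) := by rw [hpre]; exact haff
      have happO : IsIso (g.toNormalization.app O) := by
        rw [g.toNormalization_app_preimage ⟨V₀, hV₀⟩]
        haveI : IsIso (W.presheaf.map (eqToHom hpre).op) := PurityDesc25.isIso_map_eqToHom hpre
        exact IsIso.comp_isIso' inferInstance (IsIso.comp_isIso' hvi (PurityDesc25.isIso_map_eqToHom _))
      have hO : ∀ O' : g.normalization.Opens, O' = O → IsIso (g.toNormalization.app O') := by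
        rintro O' rfl; exact happO
      have hO' := hO _ O.ι_image_top
      have : IsIso (g.toNormalization ∣_ O).appTop := by
        rw [morphismRestrict_appTop]
        exact IsIso.comp_isIso' hO' (PurityDesc25.isIso_map_eqToHom _)
      exact (HasAffineProperty.iff_of_isAffine (P := MorphismProperty.isomorphisms Scheme.{u})).2
        ⟨inferInstance, this⟩
  have hfinite : IsFinite g.fromNormalization := by
    rw [isFinite_iff]
    exact ⟨inferInstance, fun V hV => (hloc V hV).1⟩
  refine ⟨g.normalization, g.fromNormalization, g.toNormalization, hfinite, inferInstance, inferInstance,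
    g.toNormalization_fromNormalization, isIso_app_of_preimage g.toNormalization g.fromNormalization
      (fun V hV => (hloc V hV).2.1), ?_⟩
  have hgU : g ⁻¹ᵁ U = ⊤ := by
    ext x
    simp only [Opens.coe_top, Set.mem_univ, iff_true]
    exact (w x).2
  set O := g.fromNormalization ⁻¹ᵁ U
  let I := {V : X.affineOpens // V.1 ≤ U}
  have hiso : IsIso (g.toNormalization ∣_ O) := by
    refine (IsZariskiLocalAtTarget.iff_of_iSup_eq_top (P := MorphismProperty.isomorphisms Scheme.{u})
      (fun V : I => O.ι ⁻¹ᵁ (g.fromNormalization ⁻¹ᵁ V.1.1)) ?_).2 fun V => ?_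
    · refine top_unique fun x _ => ?_
      obtain ⟨V, hV, hxV, hVU⟩ := exists_isAffineOpen_mem_and_subset (X := X) (U := U)
        (x := g.fromNormalization x.1) x.2
      exact Opens.mem_iSup.2 ⟨⟨⟨V, hV⟩, hVU⟩, hxV⟩
    · have haff : IsAffineOpen (g ⁻¹ᵁ V.1.1) := by
        have : g ⁻¹ᵁ V.1.1 = w ⁻¹ᵁ (U.ι ⁻¹ᵁ V.1.1) := rfl
        rw [this]
        exact (V.1.2.preimage_of_isOpenImmersion U.ι (by simpa using V.2)).preimage w
      refine (MorphismProperty.arrow_mk_iso_iff (MorphismProperty.isomorphisms Scheme.{u})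
        (morphismRestrictRestrict g.toNormalization O _)).2 ?_
      have hle : O.ι ''ᵁ (O.ι ⁻¹ᵁ (g.fromNormalization ⁻¹ᵁ V.1.1)) = g.fromNormalization ⁻¹ᵁ V.1.1 := by
        rw [Scheme.Hom.image_preimage_eq_opensRange_inf, Scheme.Opens.opensRange_ι]
        exact inf_eq_right.2 (g.fromNormalization.preimage_mono V.2)
      rw [hle]
      exact (hloc _ V.1.2).2.2 haff
  haveI := hiso
  have hpre : g.toNormalization ⁻¹ᵁ O = ⊤ := by
    rw [← Scheme.Hom.comp_preimage, Scheme.Hom.toNormalization_fromNormalization, hgU]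
  have h1 : IsPullback O.ι (g.fromNormalization ∣_ U) g.fromNormalization U.ι :=
    (isPullback_morphismRestrict g.fromNormalization U).flip
  haveI : IsIso (g.toNormalization ⁻¹ᵁ O).ι := by
    rw [hpre]
    exact inferInstanceAs (IsIso W.topIso.hom)
  let e : W ≅ (O : Scheme.{u}) :=
    (asIso (g.toNormalization ⁻¹ᵁ O).ι).symm ≪≫ asIso (g.toNormalization ∣_ O)
  have he : e.hom ≫ O.ι = g.toNormalization := by
    simp [e, morphismRestrict_ι]
  refine h1.of_iso e.symm (Iso.refl _) (Iso.refl _) (Iso.refl _) ?_ ?_ (by simp) (by simp)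
  · simp only [Iso.symm_hom, Iso.refl_hom, Category.comp_id]
    rw [← he, Iso.inv_hom_id_assoc]
  · simp only [Iso.symm_hom, Iso.refl_hom, Category.comp_id]
    rw [← cancel_mono U.ι, morphismRestrict_ι, Category.assoc, Iso.eq_inv_comp, reassoc_of% he]
    exact g.toNormalization_fromNormalization

end Groth.Agent.S2Ext25
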