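import Groth.Agent.Lib.S2Ext25.Algebra
import Groth.Agent.Lib.FEtEq25.DepthTwo
import Mathlib.AlgebraicGeometry.Normalization
import Mathlib.RingTheory.RingHom.Etale

/-!
# Finiteness of the direct image of a finite étale cover across depth two
-/

set_option autoImplicit false
set_option backward.isDefEq.respectTransparency false
universe u

open CategoryTheory CategoryTheory.Limits AlgebraicGeometry TopologicalSpace Opposite

namespace Groth.Agent.S2Ext25

variable {X : Scheme.{u}} [IsLocallyNoetherian X] (U : X.Opens) {W : Scheme.{u}} (w : W ⟶ (U : Scheme.{u}))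

/-- Over affines inside `U` the composite is as good as the cover. -/
theorem finite_etale_app [IsFinite w] [Etale w] (D : X.Opens) (hD : IsAffineOpen D) (hle : D ≤ U) :
    ((w ≫ U.ι).app D).hom.Finite ∧ ((w ≫ U.ι).app D).hom.Etale := by
  have hD' : IsAffineOpen (U.ι ⁻¹ᵁ D) := hD.preimage_of_isOpenImmersion U.ι (by simpa using hle)
  haveI : IsIso (U.ι.app D) := U.ι.isIso_app D (by simpa using hle)
  rw [Scheme.Hom.comp_app]
  refine ⟨(RingHom.finite_respectsIso.cancel_left_isIso (U.ι.app D) _).2 (IsFinite.finite_app (f := w) _ hD'),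
    (RingHom.Etale.respectsIso.cancel_left_isIso (U.ι.app D) _).2 ?_⟩
  rw [Scheme.Hom.app_eq_appLE]
  exact HasRingHomProperty.appLE (P := @Etale) w inferInstance ⟨_, hD'⟩ ⟨_, hD'.preimage w⟩ le_rfl

set_option maxHeartbeats 1600000 in
/-- Sections of the cover over an affine are finite. -/
theorem finite_app [IsFinite w] [Etale w]
    (hU : ∀ x : X, x ∉ U → (2 : ℕ∞) ≤ LocCoh.depth (X.presheaf.stalk x) (X.presheaf.stalk x))
    (V₀ : X.Opens) (hV₀ : IsAffineOpen V₀) : ((w ≫ U.ι).app V₀).hom.Finite := by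
  classical
  let h := w ≫ U.ι
  haveI : QuasiCompact h := inferInstanceAs (QuasiCompact (w ≫ U.ι))
  haveI : QuasiSeparated h := inferInstanceAs (QuasiSeparated (w ≫ U.ι))
  haveI : IsNoetherianRing Γ(X, V₀) := IsLocallyNoetherian.component_noetherian ⟨V₀, hV₀⟩
  haveI : IsAffine (V₀ : Scheme.{u}) := hV₀
  haveI : IsLocallyNoetherian (V₀ : Scheme.{u}) := inferInstance
  haveI : IsNoetherian (V₀ : Scheme.{u}) := {}
  -- basic opens covering the part inside `U`
  have hcpt : IsCompact ((V₀ ⊓ U : X.Opens) : Set X) := by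
    have h1 := (NoetherianSpace.isCompact (V₀.ι ⁻¹' (U : Set X))).image V₀.ι.continuous
    rwa [Set.image_preimage_eq_inter_range, Scheme.Opens.range_ι, Set.inter_comm] at h1
  have hex : ∀ z : ↥(V₀ ⊓ U), ∃ f : Γ(X, V₀), X.basicOpen f ≤ V₀ ⊓ U ∧ (z : X) ∈ X.basicOpen f := fun z =>
    hV₀.exists_basicOpen_le ⟨z.1, z.2⟩ z.2.1
  choose f₀ hf₀ hf₀' using hex
  obtain ⟨t, ht⟩ := hcpt.elim_finite_subcover (fun z => (X.basicOpen (f₀ z) : Set X))
    (fun z => (X.basicOpen (f₀ z)).2) fun z hz => Set.mem_iUnion.2 ⟨⟨z, hz⟩, hf₀' _⟩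
  let F : Finset Γ(X, V₀) := t.image f₀
  have hFle : ∀ f : F, X.basicOpen (f : Γ(X, V₀)) ≤ V₀ ⊓ U := fun f => by
    obtain ⟨z, -, hz⟩ := Finset.mem_image.1 f.2
    rw [← hz]
    exact hf₀ z
  have hFcov : V₀ ⊓ U ≤ ⨆ f : F, X.basicOpen (f : Γ(X, V₀)) := fun z hz => by
    obtain ⟨i, hi, hzi⟩ := Set.mem_iUnion₂.1 (ht hz)
    exact Opens.mem_iSup.2 ⟨⟨f₀ i, Finset.mem_image_of_mem _ hi⟩, hzi⟩
  have hres := FEtEq25.bijective_restrict U hU V₀
  let ρ := fun {P Q : X.Opens} (e : Q ≤ P) => (X.presheaf.map (homOfLE e).op).hom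
  have hρρ : ∀ {P Q R : X.Opens} (e : Q ≤ P) (e' : R ≤ Q) (a : Γ(X, P)), ρ e' (ρ e a) = ρ (e'.trans e) a :=
    fun e e' a => by
      simp only [ρ, ← CommRingCat.comp_apply, ← Functor.map_comp]
      rfl
  have hloc : ∀ (a : Γ(X, V₀)), (∀ f : F, ρ (X.basicOpen_le (f : Γ(X, V₀))) a = 0) → a = 0 := by
    intro a ha
    apply hres.1
    rw [map_zero]
    refine TopCat.Sheaf.eq_of_locally_eq' X.sheaf (fun f : F => X.basicOpen (f : Γ(X, V₀))) (V₀ ⊓ U)
      (fun f => homOfLE (hFle f)) hFcov _ _ fun f => ?_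
    show ρ (hFle f) (ρ inf_le_left a) = ρ (hFle f) 0
    rw [hρρ, map_zero]
    exact ha f
  have hunit : ∀ (f : Γ(X, V₀)), IsUnit (ρ (X.basicOpen_le f) f) := fun f => RingedSpace.isUnit_res_basicOpen _ f
  have hA0 : ∀ (a : Γ(X, V₀)) (N : ℕ), (∀ f : F, (f : Γ(X, V₀)) ^ N * a = 0) → a = 0 := fun a N ha =>
    hloc a fun f => ((hunit f.1).pow N).mul_right_eq_zero.1 (by rw [← map_pow, ← map_mul, ha, map_zero])
  have hA : ∀ (c : F → Γ(X, V₀)) (N : ℕ),
      (∀ f g : F, (g : Γ(X, V₀)) ^ N * c f = (f : Γ(X, V₀)) ^ N * c g) →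
      ∃ a : Γ(X, V₀), ∀ f : F, (f : Γ(X, V₀)) ^ N * a = c f := by
    intro c N hc
    let s : ∀ f : F, Γ(X, X.basicOpen (f : Γ(X, V₀))) := fun f =>
      ↑(((hunit f.1).pow N).unit⁻¹) * ρ (X.basicOpen_le (f : Γ(X, V₀))) (c f)
    obtain ⟨σ, hσ, -⟩ := TopCat.Sheaf.existsUnique_gluing' X.sheaf (fun f : F => X.basicOpen (f : Γ(X, V₀)))
      (V₀ ⊓ U) (fun f => homOfLE (hFle f)) hFcov s fun f g => by
        show ρ inf_le_left (s f) = ρ inf_le_right (s g)
        have hu := ((hunit f.1).pow N).map (ρ (inf_le_left : X.basicOpen f.1 ⊓ X.basicOpen g.1 ≤ X.basicOpen f.1))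
        have hu' := ((hunit g.1).pow N).map (ρ (inf_le_right : X.basicOpen f.1 ⊓ X.basicOpen g.1 ≤ X.basicOpen g.1))
        refine (hu.mul hu').mul_left_cancel ?_
        have hl : ρ (X.basicOpen_le f.1) f.1 ^ N * s f = ρ (X.basicOpen_le _) (c f) := by
          simp only [s, ← mul_assoc]
          rw [IsUnit.mul_val_inv, one_mul]
        have hr : ρ (X.basicOpen_le g.1) g.1 ^ N * s g = ρ (X.basicOpen_le _) (c g) := by
          simp only [s, ← mul_assoc]
          rw [IsUnit.mul_val_inv, one_mul]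
        rw [mul_assoc _ _ (ρ inf_le_right (s g)), ← map_mul (ρ inf_le_right), hr,
          mul_comm _ (ρ inf_le_right (ρ (X.basicOpen_le g.1) g.1 ^ N)), mul_assoc _ _ (ρ inf_le_left (s f)),
          ← map_mul (ρ inf_le_left), hl]
        simp only [map_pow, hρρ, ← map_mul]
        rw [← map_pow, ← map_pow, ← map_mul, ← map_mul, hc]
    obtain ⟨a, ha⟩ := hres.2 σ
    refine ⟨a, fun f => sub_eq_zero.1 (hloc _ fun g => ?_)⟩
    have hg : ρ (X.basicOpen_le g.1) a = s g := by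
      rw [← hσ g, ← hρρ inf_le_left (hFle g) a]
      exact congrArg (ρ (hFle g)) ha
    refine ((hunit g.1).pow N).mul_right_eq_zero.1 ?_
    rw [← map_pow, ← map_mul, mul_sub, hc, map_sub, map_mul, map_mul, map_mul, hg, map_pow, map_pow]
    simp only [s]
    rw [mul_left_comm (ρ (X.basicOpen_le g.1) g.1 ^ N), ← mul_assoc (ρ (X.basicOpen_le g.1) g.1 ^ N),
      IsUnit.mul_val_inv, one_mul, sub_self]
  -- the module
  let B := Γ(W, h ⁻¹ᵁ V₀)
  letI : Algebra Γ(X, V₀) B := (h.app V₀).hom.toAlgebra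
  let E : Γ(X, V₀) → W.Opens := fun f => W.basicOpen (h.app V₀ f)
  have hE : ∀ f, E f = h ⁻¹ᵁ X.basicOpen f := fun f => (Scheme.preimage_basicOpen h f).symm
  letI : ∀ f : F, Algebra Γ(X, V₀) Γ(X, X.basicOpen (f : Γ(X, V₀))) := fun f =>
    (ρ (X.basicOpen_le (f : Γ(X, V₀)))).toAlgebra
  haveI : ∀ f : F, IsLocalization.Away (f : Γ(X, V₀)) Γ(X, X.basicOpen (f : Γ(X, V₀))) := fun f =>
    hV₀.isLocalization_basicOpen _
  letI : ∀ f : F, Algebra Γ(X, X.basicOpen (f : Γ(X, V₀))) Γ(W, E f.1) := fun f =>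
    (h.appLE (X.basicOpen (f : Γ(X, V₀))) (E f.1) (hE f.1).le).hom.toAlgebra
  letI : ∀ f : F, Algebra B Γ(W, E f.1) := fun f =>
    (W.presheaf.map (homOfLE (W.basicOpen_le (h.app V₀ f.1))).op).hom.toAlgebra
  letI : ∀ f : F, Algebra Γ(X, V₀) Γ(W, E f.1) := fun f =>
    (h.appLE V₀ (E f.1) (W.basicOpen_le _)).hom.toAlgebra
  haveI : ∀ f : F, IsScalarTower Γ(X, V₀) Γ(X, X.basicOpen (f : Γ(X, V₀))) Γ(W, E f.1) := fun f =>
    IsScalarTower.of_algebraMap_eq' (congrArg CommRingCat.Hom.hom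
      (Scheme.Hom.map_appLE h (hE f.1).le (homOfLE (X.basicOpen_le f.1)).op)).symm
  haveI : ∀ f : F, IsScalarTower Γ(X, V₀) B Γ(W, E f.1) := fun f =>
    IsScalarTower.of_algebraMap_eq' rfl
  haveI : ∀ f : F, IsLocalization.Away (h.app V₀ f.1) Γ(W, E f.1) := fun f =>
    isLocalization_basicOpen_of_qcqs (h.isCompact_preimage hV₀.isCompact)
      (h.isQuasiSeparated_preimage hV₀.isQuasiSeparated) _
  haveI : ∀ f : F, IsLocalizedModule (Submonoid.powers (f : Γ(X, V₀)))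
      (IsScalarTower.toAlgHom Γ(X, V₀) B Γ(W, E f.1)).toLinearMap := fun f => by
    refine isLocalizedModule_iff_isLocalization.mpr ?_
    rw [Algebra.algebraMapSubmonoid_powers]
    exact inferInstanceAs (IsLocalization.Away (h.app V₀ f.1) Γ(W, E f.1))
  have hfe : ∀ f : F, (h.appLE (X.basicOpen (f : Γ(X, V₀))) (E f.1) (hE f.1).le).hom.Finite ∧
      (h.appLE (X.basicOpen (f : Γ(X, V₀))) (E f.1) (hE f.1).le).hom.Etale := fun f => by
    obtain ⟨h1, h2⟩ := finite_etale_app U w (X.basicOpen f.1) (hV₀.basicOpen f.1) ((hFle f).trans inf_le_right)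
    haveI : IsIso (W.presheaf.map (homOfLE (hE f.1).le).op) := by
      have : homOfLE (hE f.1).le = eqToHom (hE f.1) := Subsingleton.elim _ _
      rw [this]
      infer_instance
    rw [show h.appLE (X.basicOpen (f : Γ(X, V₀))) (E f.1) (hE f.1).le =
      h.app (X.basicOpen (f : Γ(X, V₀))) ≫ W.presheaf.map (homOfLE (hE f.1).le).op from rfl]
    exact ⟨(RingHom.finite_respectsIso.cancel_right_isIso _ _).2 h1,
      (RingHom.Etale.respectsIso.cancel_right_isIso _ _).2 h2⟩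
  haveI : ∀ f : F, Module.Finite Γ(X, X.basicOpen (f : Γ(X, V₀))) Γ(W, E f.1) := fun f => (hfe f).1
  haveI : ∀ f : F, Module.Projective Γ(X, X.basicOpen (f : Γ(X, V₀))) Γ(W, E f.1) := fun f => by
    haveI : IsNoetherianRing Γ(X, X.basicOpen (f : Γ(X, V₀))) :=
      IsLocallyNoetherian.component_noetherian ⟨_, hV₀.basicOpen f.1⟩
    haveI : Algebra.Etale Γ(X, X.basicOpen (f : Γ(X, V₀))) Γ(W, E f.1) := (hfe f).2
    haveI := Module.finitePresentation_of_finite Γ(X, X.basicOpen (f : Γ(X, V₀))) Γ(W, E f.1)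
    exact Module.Flat.projective_of_finitePresentation
  have hB0 : ∀ b : B, (∀ f : F, ∃ N : ℕ, (f : Γ(X, V₀)) ^ N • b = 0) → b = 0 := by
    intro b hb
    refine TopCat.Sheaf.eq_of_locally_eq' W.sheaf (fun f : F => E f.1) (h ⁻¹ᵁ V₀)
      (fun f => homOfLE (W.basicOpen_le _)) (fun z hz => ?_) _ _ fun f => ?_
    · have hzU : h z ∈ U := (w z).2
      obtain ⟨f, hf⟩ := Opens.mem_iSup.1 (hFcov (show h z ∈ V₀ ⊓ U from ⟨hz, hzU⟩))
      exact Opens.mem_iSup.2 ⟨f, by rw [hE]; exact hf⟩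
    · obtain ⟨N, hN⟩ := hb f
      show algebraMap B Γ(W, E f.1) b = algebraMap B Γ(W, E f.1) 0
      rw [map_zero]
      refine ((RingedSpace.isUnit_res_basicOpen W.toRingedSpace (h.app V₀ f.1)).pow N).mul_right_eq_zero.1 ?_
      show (algebraMap B Γ(W, E f.1) (h.app V₀ f.1)) ^ N * algebraMap B Γ(W, E f.1) b = 0
      rw [← map_pow, ← map_mul, ← map_zero (algebraMap B Γ(W, E f.1)), ← hN, Algebra.smul_def, map_pow]
      rfl
  exact finite_of_locally_projective F hA hA0 hB0 (fun f : F => Γ(X, X.basicOpen (f : Γ(X, V₀))))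
    (fun f : F => Γ(W, E f.1)) (fun f => (IsScalarTower.toAlgHom Γ(X, V₀) B Γ(W, E f.1)).toLinearMap)

end Groth.Agent.S2Ext25
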